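import Cfsg.Agent.Lib.L4C.Dat
import Cfsg.Agent.Lib.Linear.Aut

/-! The involution centraliser of `L₄(5)` from two fundamental subgroups. -/

set_option autoImplicit false

namespace Cfsg.Lib.L4S.Fv

open Matrix Subgroup Cfsg.Lib.PSL2 Cfsg.Lib.GLTwo Cfsg.Lib.L3C Cfsg.Lib.L4C Cfsg.Lib.BG Cfsg.Lib.Linear
open Matrix.SpecialLinearGroup (toGL)
open scoped Cfsg.Lib.Transfer MatrixGroups

variable {F G G' : Type*} [Field F] [Group G] [Group G'] {A B : GL (Fin 2) F}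

theorem ex_sl (h : 𝐝 A = 1) : ∃ s : SL(2, F), toGL s = A := ⟨⟨A, congrArg Units.val h⟩, Units.ext rfl⟩
theorem dt_sl (s : SL(2, F)) : 𝐝 (toGL s) = 1 := Units.ext s.2
theorem sl_ng : toGL (-1 : SL(2, F)) = ng := by apply gl_ext <;> simp

theorem sc_of (e : ∀ t : SL(2, F), conjSL A t = t) : Sc A := by
  have k : ∀ X, 𝐝 X = 1 → A * X = X * A := fun X h => by
    obtain ⟨s, rfl⟩ := ex_sl h
    rw [← mul_inv_eq_iff_eq_mul, ← toGL_conjSL, e]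
  have a := ent (k (up 1) (by simp))
  have b := ent (k (lo 1) (by simp))
  simp [Matrix.mul_apply] at a b
  exact sc_iff.2 ⟨b.1, a.1, by rw [add_comm] at a; simpa using a.2.1⟩

/-- parameters of the centraliser -/
def par (D : Dat F G) (p : {p : GL (Fin 2) F × GL (Fin 2) F // Pr p.1 p.2} × Bool) : G :=
  if p.2 then D.m p.1.1.1 p.1.1.2 * D.ν else D.m p.1.1.1 p.1.1.2

theorem par_range (D : Dat F G) : Set.range (par D) = 𝐂[D.t] := Set.ext fun x => Iff.trans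
  (b := ∃ A B, Pr A B ∧ (x = D.m A B ∨ x = D.m A B * D.ν)) ⟨fun ⟨⟨⟨⟨A, B⟩, p⟩, b⟩, e⟩ => ⟨A, B, p, by cases b; exacts [.inl e.symm, .inr e.symm]⟩, fun ⟨A, B, p, e⟩ =>
    e.elim (fun e => ⟨(⟨(A, B), p⟩, false), e.symm⟩) fun e => ⟨(⟨(A, B), p⟩, true), e.symm⟩⟩ D.cent.symm

theorem card_eq (D : Dat F G) (E : Dat F G') : Nat.card 𝐂[D.t] = Nat.card 𝐂[E.t] := by
  refine (Nat.card_congr (Equiv.setCongr (par_range D))).symm.trans ((Nat.card_congr ((Setoid.quotientKerEquivRange _).symm.trans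
    ((Quotient.congrRight ?_).trans (Setoid.quotientKerEquivRange _)))).trans (Nat.card_congr (Equiv.setCongr (par_range E))))
  rintro ⟨⟨⟨A, B⟩, p⟩, _ | _⟩ ⟨⟨⟨C, X⟩, q⟩, _ | _⟩
  exacts [(D.eq_iff p q).trans (E.eq_iff p q).symm, iff_of_false (D.ne_ν q p).symm (E.ne_ν q p).symm,
    iff_of_false (D.ne_ν p q) (E.ne_ν p q), (mul_left_inj _).trans (((D.eq_iff p q).trans (E.eq_iff p q).symm).trans (mul_left_inj _).symm)]

theorem exists_dat [Fintype F] [Finite G] (h5 : Nat.card F = 5) {ι : SL(2, F) →* G} {a w : G} {A₀ : GL (Fin 2) F}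
    (inj : Function.Injective ι) (a2 : a * a = 1) (cm : ∀ s t, Commute (ι s) (a * ι t * a⁻¹)) (az : a * ι (-1) * a⁻¹ = ι (-1))
    (act : ∀ s, w * ι s * w⁻¹ = ι (conjSL A₀ s)) (w2 : w * w = ι (-1)) (aw : a * w * a⁻¹ = w⁻¹) (ns : ¬ IsSquare (𝐝 A₀ : F))
    (cent : ∀ H : Subgroup G, (∀ s, ι s ∈ H) → (∀ s, a * ι s * a⁻¹ ∈ H) → w ∈ H → ∀ x ∈ 𝐂[ι (-1)], x ∈ H ∨ x * a ∈ H) :
    ∃ D : Dat F G, D.t = ι (-1) := by
  have c5 : Fintype.card F = 5 := Fintype.card_eq_nat_card.trans h5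
  have two : (2 : F) ≠ 0 := Ring.two_ne_zero fun c => by have := FiniteField.even_card_of_char_two c; omega
  have gen : ∀ d : Fˣ, d * d ≠ 1 → orderOf d = 4 ∧ ∀ x, x ∈ zpowers d := fun d n => by
    have o : orderOf d = 2 ^ (1 + 1) := orderOf_eq_prime_pow (by simpa [sq] using n)
      (by have := pow_card_eq_one' (G := Fˣ) (x := d); rwa [Nat.card_units, h5] at this)
    exact ⟨o, fun x => (eq_top_of_card_eq (zpowers d) (by rw [Nat.card_zpowers, o, Nat.card_units, h5]; rfl)).ge (mem_top x)⟩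
  have dn : 𝐝 A₀ * 𝐝 A₀ ≠ 1 := fun e => ns ((mul_self_eq_one_iff.1 (congrArg Units.val e)).elim (fun e => e ▸ .one)
    fun e => e ▸ FiniteField.isSquare_neg_one_iff.2 (by omega))
  have zc : ∀ s, Commute (ι (-1)) (ι s) := fun s => (Commute.neg_one_left s).map ι
  have zz : ι (-1) * ι (-1) = 1 := by rw [← map_mul]; simp
  have z1 : ι (-1) ≠ 1 := fun e => neg_ne two (dg_inj.1 (sl_ng.symm.trans
    ((congrArg toGL (inj (e.trans (map_one ι).symm))).trans ((map_one _).trans dg_one.symm)))).1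
  have ai : a⁻¹ = a := inv_eq_of_mul_eq_one_right a2
  obtain ⟨σ, hσ⟩ := sc_of (A := A₀ * A₀) fun t => inj (by
    rw [map_mul, MulAut.mul_apply, ← act, ← act, show w * (w * ι t * w⁻¹) * w⁻¹ = w * w * ι t * (w * w)⁻¹ by group, w2, (zc t).eq,
      mul_inv_cancel_right])
  have σn : σ * σ ≠ 1 := fun e => dn (by rw [← map_mul, hσ, dt_dg, e])
  have σσ : σ * σ = -1 := Units.ext ((mul_self_eq_one_iff.1 (congrArg Units.val (show σ * σ * (σ * σ) = 1 by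
    rw [← pow_orderOf_eq_one σ, (gen σ σn).1, ← sq, ← sq, ← pow_mul]))).resolve_left fun e => σn (Units.ext e))
  let ι' : SL(2, F) →* G := (MulAut.conj a).toMonoidHom.comp ι
  let φ : SL(2, F) × SL(2, F) →* (GL (Fin 2) F × GL (Fin 2) F) × G := (toGL.prodMap toGL).prod (ι.noncommCoprod ι' cm)
  have hφ : ∀ s t, φ (s, t) = ((toGL s, toGL t), ι s * (a * ι t * a⁻¹)) := fun _ _ => rfl
  let ω : (GL (Fin 2) F × GL (Fin 2) F) × G := ((A₀, A₀⁻¹), w)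
  have act' : ∀ s, w * (a * ι s * a⁻¹) * w⁻¹ = a * ι (conjSL A₀⁻¹ s) * a⁻¹ := fun s => by
    have := act (conjSL A₀⁻¹ s)
    rw [← MulAut.mul_apply, ← map_mul, mul_inv_cancel, map_one, MulAut.one_apply] at this
    calc _ = (a * w * a⁻¹)⁻¹ * (a * (w * ι (conjSL A₀⁻¹ s) * w⁻¹) * a⁻¹) * (a * w * a⁻¹) := by rw [aw, inv_inv, this]
      _ = _ := by group
  have nω : zpowers ω ≤ 𝐍(φ.range) := zpowers_le.2 (mem_normalizer_fintype fun _ ⟨⟨s, t⟩, e⟩ => ⟨(conjSL A₀ s, conjSL A₀⁻¹ t), by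
    rw [← e, hφ, hφ, toGL_conjSL, toGL_conjSL, ← act, ← act', conj_mul]; rfl⟩)
  have ω4 : ω ^ 4 ∈ φ.range := ⟨(-1, -1), by
    have : A₀ ^ 4 = ng := by rw [show A₀ ^ 4 = A₀ * A₀ * (A₀ * A₀) by rw [← sq, ← sq, ← pow_mul], hσ, dg_mul, σσ]
    rw [hφ, az, zz, sl_ng, Prod.pow_mk, Prod.pow_mk, inv_pow, this, ng_inv, show w ^ 4 = w * w * (w * w) by rw [← sq, ← sq, ← pow_mul], w2, zz]⟩
  obtain ⟨Γ, hΓ⟩ : ∃ Γ, Γ = φ.range ⊔ zpowers ω := ⟨_, rfl⟩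
  have mφ : ∀ s t, φ (s, t) ∈ Γ := fun s t => hΓ ▸ mem_sup_left ⟨_, rfl⟩
  have mω : ω ∈ Γ := hΓ ▸ mem_sup_right (mem_zpowers ω)
  have ind : ∀ K : Subgroup _, (∀ s t, φ (s, t) ∈ K) → ω ∈ K → Γ ≤ K := fun K p q =>
    hΓ ▸ sup_le (fun _ ⟨⟨s, t⟩, e⟩ => e ▸ p s t) (zpowers_le.2 q)
  have un1 : ∀ g, ((1, 1), g) ∈ Γ → g = 1 := fun g m => by
    obtain ⟨_, ⟨⟨s, t⟩, rfl⟩, _, ⟨k, rfl⟩, e⟩ := (Core.mem_sup_of_le_normalizer_left nω).1 (hΓ ▸ m)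
    have d := congrArg (fun p => 𝐝 p.1.1) e
    simp only [hφ, ω, Prod.fst_mul, Prod.pow_fst, map_mul, map_zpow, dt_sl, one_mul, map_one] at d
    obtain ⟨j, rfl⟩ := (gen _ dn).1 ▸ orderOf_dvd_iff_zpow_eq_one.2 d
    obtain ⟨⟨s, t⟩, e⟩ : ((1, 1), g) ∈ φ.range := e ▸ mul_mem ⟨_, rfl⟩ (by
      beta_reduce; rw [_root_.zpow_mul, _root_.zpow_natCast]; exact zpow_mem ω4 j)
    rw [hφ, Prod.mk.injEq, Prod.mk.injEq, map_eq_one_iff _ SpecialLinearGroup.toGL_injective,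
      map_eq_one_iff _ SpecialLinearGroup.toGL_injective] at e
    obtain ⟨⟨rfl, rfl⟩, rfl⟩ := e
    simp
  have un : ∀ {p g g'}, (p, g) ∈ Γ → (p, g') ∈ Γ → g = g' := fun {p g g'} m m' =>
    mul_inv_eq_one.1 (un1 _ (by simpa [Prod.one_eq_mk] using mul_mem m (inv_mem m')))
  have ex : ∀ A B, ∃ g, Pr A B → ((A, B), g) ∈ Γ := fun A B => by
    obtain ⟨k, e⟩ := (gen _ dn).2 (𝐝 A)
    by_cases p : Pr A B
    · obtain ⟨s, hs⟩ := ex_sl (A := A * A₀ ^ (-k)) (by simp [← e])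
      obtain ⟨t, ht⟩ := ex_sl (A := B * A₀ ^ k) (by simp [pr_iff'.1 p, ← e])
      exact ⟨_, fun _ => by simpa [hφ, hs, ht, ω] using mul_mem (mφ s t) (zpow_mem mω k)⟩
    · exact ⟨1, fun q => absurd q p⟩
  choose m hm using ex
  have pa : ∀ p ∈ Γ, Pr p.1.1 p.1.2 ∧ ((p.1.2, p.1.1), a * p.2 * a⁻¹) ∈ Γ ∧ p.2 ∈ 𝐂[ι (-1)] ∧
      ∀ t, p.2 * ι t * p.2⁻¹ = ι (conjSL p.1.1 t) := ind ⟨⟨⟨{p | Pr p.1.1 p.1.2 ∧ ((p.1.2, p.1.1), a * p.2 * a⁻¹) ∈ Γ ∧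
        p.2 ∈ 𝐂[ι (-1)] ∧ ∀ t, p.2 * ι t * p.2⁻¹ = ι (conjSL p.1.1 t)}, fun {p q} x y => ⟨x.1.mul y.1,
      by simpa [mul_assoc] using mul_mem x.2.1 y.2.1, mul_mem x.2.2.1 y.2.2.1, fun t => by
        rw [Prod.fst_mul, Prod.fst_mul, map_mul, MulAut.mul_apply, ← x.2.2.2, ← y.2.2.2, Prod.snd_mul]; group⟩⟩,
      .one, by simpa [Prod.one_eq_mk] using one_mem Γ, one_mem _, by simp⟩, fun {p} x => ⟨x.1.inv,
      by simpa [mul_assoc] using inv_mem x.2.1, inv_mem x.2.2.1, fun t => by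
        have := x.2.2.2 (conjSL p.1.1⁻¹ t)
        rw [← MulAut.mul_apply, ← map_mul, mul_inv_cancel, map_one, MulAut.one_apply] at this
        rw [← this, Prod.snd_inv]; group; rfl⟩⟩
    (fun s t => ⟨.sl (dt_sl s) (dt_sl t), by
      convert mφ t s using 1; rw [hφ, hφ, ← conj_mul, (cm t s).eq]; simp [ai, ← mul_assoc, a2]; simp [mul_assoc, a2],
      mem_cent1.2 ((zc s).mul_right (cm _ t)).symm, fun u => by
      rw [hφ, conjSL_toGL, MulAut.conj_apply, map_mul, map_mul, map_inv, mul_assoc (ι s), ← (cm u t).eq]; group⟩)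
    ⟨.self _, aw ▸ inv_mem mω, mem_cent1.2 (by rw [← w2, mul_assoc]), act⟩
  have mz : ((ng, 1), ι (-1)) ∈ Γ := by simpa [hφ, sl_ng] using mφ (-1) 1
  have sc : ∀ z, ((dg z z, dg z z), 1) ∈ Γ := fun z => by
    obtain ⟨k, rfl⟩ := (gen σ σn).2 z
    have : ((dg σ σ, dg σ σ), 1) ∈ Γ := by
      convert mul_mem (mul_mem mω mω) (pa _ mz).2.1 using 1
      simp only [ω, Prod.mk_mul_mk, hσ, mul_one, az, w2, zz, ← _root_.mul_inv_rev, dg_inv, dg_mul, ← σσ, inv_mul_cancel_left]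
    convert zpow_mem this k using 1
    rw [Prod.pow_mk, Prod.pow_mk, _root_.one_zpow]; exact congrArg (fun x => ((x, x), 1)) (map_zpow dgH (σ, σ) k)
  have mt : m ng 1 = ι (-1) := un (hm _ _ (pa _ mz).1) mz
  refine ⟨⟨m, a, two, fun p q => un (mul_mem (hm _ _ p) (hm _ _ q)) (hm _ _ (p.mul q)), fun {A B} p => ⟨fun e => ?_, ?_⟩, a2,
    fun p => mul_inv_eq_iff_eq_mul.1 (un (pa _ (hm _ _ p)).2.1 (hm _ _ p.symm)), fun {x} => mt.symm ▸ ⟨fun c => ?_, ?_⟩⟩, mt⟩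
  · have k : ∀ {A B}, ((A, B), 1) ∈ Γ → Sc A := fun m => sc_of fun t => inj (by simpa using ((pa _ m).2.2.2 t).symm)
    have q := e ▸ hm _ _ p
    obtain ⟨u, rfl⟩ := k q
    obtain ⟨v, rfl⟩ := k (by simpa using (pa _ q).2.1)
    have r : ((dg (u * v⁻¹) (u * v⁻¹), 1), 1) ∈ Γ := by simpa [dg_inv, dg_mul] using mul_mem q (inv_mem (sc v))
    rcases mul_self_eq_one_iff.1 (congrArg Units.val (show u * v⁻¹ * (u * v⁻¹) = 1 by simpa [Pr] using (pa _ r).1)) with f | f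
    · exact ⟨u, rfl, by rw [mul_inv_eq_one.1 (Units.ext f)]⟩
    · exact absurd (un mz (by rwa [show u * v⁻¹ = -1 from Units.ext f] at r)) z1
  · rintro ⟨z, rfl, rfl⟩; exact un (hm _ _ p) (sc z)
  · rcases cent (Γ.map (.snd _ _)) (fun s => ⟨_, mφ s 1, by simp [hφ]⟩) (fun s => ⟨_, mφ 1 s, by simp [hφ]⟩) ⟨_, mω, rfl⟩ x c with
      ⟨⟨⟨A, B⟩, g⟩, q, e⟩ | ⟨⟨⟨A, B⟩, g⟩, q, e⟩
    · exact ⟨A, B, (pa _ q).1, .inl (e ▸ un q (hm _ _ (pa _ q).1))⟩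
    · exact ⟨A, B, (pa _ q).1, .inr (by rw [← un q (hm _ _ (pa _ q).1), show g = x * a from e, mul_assoc, a2, mul_one])⟩
  · rintro ⟨A, B, p, rfl | rfl⟩
    exacts [(pa _ (hm _ _ p)).2.2.1, mul_mem (pa _ (hm _ _ p)).2.2.1 (mem_cent1.2 (mul_inv_eq_iff_eq_mul.1 az))]

end Cfsg.Lib.L4S.Fv
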