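import Cfsg.Agent.Lib.L4C.Model
import Cfsg.Agent.Lib.Inv.GLTwoSyl
import Cfsg.Agent.Lib.Inv.Dihedral
import Cfsg.Agent.Lib.PSL2.Torus
import Cfsg.Agent.S0243

/-! Sylow 2-subgroups of `L₄(q)`, `q` odd: generators and relations inside `PGL₄(q)`. -/

set_option autoImplicit false

namespace Cfsg.Lib.L4S.Mx

open Matrix Subgroup Cfsg.Lib.PSL2 Cfsg.Lib.GLTwo Cfsg.Lib.L3C Cfsg.Lib.L4C
open scoped MatrixGroups

variable {F : Type*} [Field F] {A B C E : GL (Fin 2) F} {g : PGL(4, F)}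

/-- block diagonal matrices -/
def bG (A B : GL (Fin 2) F) : GL (Fin 4) F := .mkOfDetNeZero (bl A 0 0 B) (by
  rw [bl_det, det_fromBlocks_zero₂₁]; exact mul_ne_zero A.det_ne_zero B.det_ne_zero)

theorem bG_coe : (bG A B : Matrix (Fin 4) (Fin 4) F) = bl A 0 0 B := rfl

/-- block diagonal elements of `PGL₄` -/
def M (A B : GL (Fin 2) F) : PGL(4, F) := ProjGenLinGroup.mk (bG A B)
/-- the swap -/
def nu : PGL(4, F) := ProjGenLinGroup.mk (SpecialLinearGroup.toGL sw4)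
/-- the image of `PSL₄` -/
abbrev K (F : Type*) [Field F] : Subgroup PGL(4, F) := (ProjectiveSpecialLinearGroup.toPGL (n := Fin 4) (R := F)).range

theorem M_mul : M A B * M C E = M (A * C) (B * E) := by
  rw [M, M, ← map_mul]; exact congrArg _ (Units.ext (by simp [bG_coe, bl_mul]))
theorem M_mul' : M A B * (M C E * g) = M (A * C) (B * E) * g := by rw [← mul_assoc, M_mul]
theorem M_ker : M A B = 1 ↔ ∃ z, A = dg z z ∧ B = dg z z := by
  rw [M, ← map_one ProjGenLinGroup.mk, eq_comm, ProjGenLinGroup.mk_eq_mk_iff]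
  refine exists_congr fun z => ?_
  rw [one_mul, Units.ext_iff, bG_coe, show ((GeneralLinearGroup.scalar (Fin 4) z : GL (Fin 4) F) : Matrix (Fin 4) (Fin 4) F) =
    (z : F) • 1 by simp [smul_one_eq_diagonal], ← bl_one, bl_smul, bl_inj, Units.ext_iff, Units.ext_iff, dg_smul]
  simp [eq_comm]
theorem M_sc (z : Fˣ) : M (dg z z * A) (dg z z * B) = M A B := by rw [← M_mul, M_ker.2 ⟨z, rfl, rfl⟩, one_mul]
theorem M_one : M (1 : GL (Fin 2) F) 1 = 1 := M_ker.2 ⟨1, by simp⟩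
theorem M_inv : (M A B)⁻¹ = M A⁻¹ B⁻¹ := inv_eq_of_mul_eq_one_right (by rw [M_mul, mul_inv_cancel, mul_inv_cancel, M_one])
theorem M_pow (k : ℕ) : M A B ^ k = M (A ^ k) (B ^ k) := by
  induction k with
  | zero => simp [M_one]
  | succ k ih => rw [pow_succ, ih, M_mul, pow_succ, pow_succ]
theorem nu_nu : (nu : PGL(4, F)) * nu = 1 := by
  rw [nu, ← map_mul, ← map_mul, show (sw4 : SL(4, F)) * sw4 = 1 from Subtype.ext (by simp [sw4_coe, bl_mul, bl_one]), map_one, map_one]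
theorem nu_nu' : nu * (nu * g) = g := by rw [← mul_assoc, nu_nu, one_mul]
theorem nu_inv : (nu : PGL(4, F))⁻¹ = nu := inv_eq_of_mul_eq_one_right nu_nu
theorem nu_M : nu * M A B = M B A * nu := by
  rw [M, M, nu, ← map_mul, ← map_mul]; exact congrArg _ (Units.ext (by simp [bG_coe, bl_mul, sw4_coe]))
theorem nu_M' : nu * (M A B * g) = M B A * (nu * g) := by rw [← mul_assoc, nu_M, mul_assoc]
theorem nu_mem : nu ∈ K F := ⟨(sw4 : SL(4, F)), rfl⟩
theorem M_mem (z : Fˣ) (h : 𝐝 A * 𝐝 B = z ^ 4) : M A B ∈ K F := by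
  have p : Pr (dg z⁻¹ z⁻¹ * A) (dg z⁻¹ z⁻¹ * B) := by
    rw [Pr, map_mul, map_mul, dt_dg, mul_mul_mul_comm, h]; group
  exact ⟨(bd _ _ : SL(4, F)), (congrArg _ (Units.ext (bd_coe p))).trans (M_sc z⁻¹)⟩

theorem ng_eq : (ng : GL (Fin 2) F) = -1 := by apply gl_ext <;> simp
theorem M_neg : M (-A) B = M A (-B) := by
  have h := M_sc (A := -A) (B := B) (-1)
  change M (ng * _) (ng * _) = _ at h
  rw [← h, ng_eq]; simp
theorem jj2 : (jj : GL (Fin 2) F) * jj = (-1 : GL (Fin 2) F) := jj_jj.trans ng_eq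
theorem jji : (jj : GL (Fin 2) F)⁻¹ = -(jj : GL (Fin 2) F) := by rw [jj_inv, ng_eq, neg_one_mul]

theorem exists_sd [Fintype F] {n u : ℕ} (hq : Fintype.card F + 1 = 2 ^ (n + 2) * u) (hu : Odd u) :
    ∃ a : GL (Fin 2) F, a ^ 2 ^ (n + 2) = -1 ∧ jj * a = -(a⁻¹ * jj) ∧ 𝐝 a = -1 := by
  obtain ⟨x, hx⟩ := IsAlgClosed.exists_pow_nat_eq (-1 : AlgebraicClosure F) (n := 2 ^ (n + 2)) (by positivity)
  have h0 : x ≠ 0 := fun e => by simp [e] at hx
  have h1 : x ^ Nat.card F = -x⁻¹ := by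
    rw [← mul_left_inj' h0, ← pow_succ, Nat.card_eq_fintype_card, hq, pow_mul, hx, hu.neg_one_pow]
    simp [h0]
  obtain ⟨s, hs⟩ := (PSL2.frob_eq_self_iff (F := F) (x := x - x⁻¹)).1 (by
    rw [map_sub, map_inv₀, PSL2.frob_apply, h1]
    simp [inv_neg, add_comm, sub_eq_add_neg])
  have h2 : (2 : F) ≠ 0 := Inv.two_ne_zero_of_odd (by rw [pow_succ', mul_assoc] at hq; omega)
  let a : GL (Fin 2) F := gl2 0 1 1 s (by simp)
  have k : ∀ k : ℕ, ∃ α β : F, ((a ^ k : GL (Fin 2) F) : Matrix (Fin 2) (Fin 2) F) = !![β, α; α, α * s + β] ∧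
      ∀ y : AlgebraicClosure F, y * y = algebraMap F _ s * y + 1 → y ^ k = algebraMap F _ α * y + algebraMap F _ β := fun k => by
    induction k with
    | zero => exact ⟨0, 1, by simp [one_fin_two], by simp⟩
    | succ k ih =>
      obtain ⟨α, β, e, f⟩ := ih
      refine ⟨α * s + β, α, by rw [pow_succ, Units.val_mul, e]; simp [a, add_comm], fun y h => ?_⟩
      rw [pow_succ, f y h, add_mul, mul_assoc, h, map_add, map_mul]; ring
  obtain ⟨α, β, e, f⟩ := k (2 ^ (n + 2))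
  have f1 := f x (by rw [hs]; field_simp; ring)
  have f2 := f (-x⁻¹) (by rw [hs]; field_simp; ring)
  rw [Even.neg_pow ⟨2 ^ (n + 1), by ring⟩, inv_pow, hx, inv_neg, inv_one] at f2
  rw [hx] at f1
  have f3 : α = 0 := by_contra fun k => by
    have : x + x⁻¹ = 0 := (mul_eq_zero.1 (show algebraMap F _ α * (x + x⁻¹) = 0 by linear_combination f2 - f1)).resolve_left
      (by simpa using k)
    have : x ^ 2 = -1 := by field_simp at this; linear_combination this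
    rw [show 2 ^ (n + 2) = 2 * (2 * 2 ^ n) by ring, pow_mul, this, pow_mul] at hx
    exact h2 ((algebraMap F (AlgebraicClosure F)).injective (by simp at hx; rw [map_ofNat, map_zero]; linear_combination hx))
  have f4 : β = -1 := (algebraMap F (AlgebraicClosure F)).injective (by simpa [f3] using f1.symm)
  refine ⟨a, Units.ext (by rw [e, f3, f4]; simp [one_fin_two]), ?_, Units.ext (by simp [a, dt_val])⟩
  rw [show a⁻¹ = gl2 (-s) 1 1 0 (by simp) from inv_eq_of_mul_eq_one_right (by apply gl_ext <;> simp [a])]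
  apply gl_ext <;> simp [a]

theorem wd_data [Fintype F] {n u : ℕ} (hq : Fintype.card F + 1 = 2 ^ (n + 2) * u) (hu : Odd u) :
    ∃ c s τ : PGL(4, F), s * s = 1 ∧ s * c * s⁻¹ = c⁻¹ ∧ c ^ 2 ^ (n + 2) = 1 ∧ τ * τ = 1 ∧ Commute c (τ * c * τ⁻¹) ∧
      Commute c (τ * s * τ⁻¹) ∧ Commute s (τ * s * τ⁻¹) ∧ c ^ 2 ^ (n + 1) ≠ 1 ∧
      c ^ 2 ^ (n + 1) * (τ * c ^ 2 ^ (n + 1) * τ⁻¹) ≠ 1 ∧ c ∈ K F ∧ s ∈ K F ∧ τ ∈ K F := by
  obtain ⟨a, a1, a2, a3⟩ := exists_sd hq hu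
  have h2 : (2 : F) ≠ 0 := Inv.two_ne_zero_of_odd (by rw [pow_succ', mul_assoc] at hq; omega)
  have n5 : ∀ k (x : GL (Fin 2) F), (-x) ^ 2 ^ (k + 1) = x ^ 2 ^ (k + 1) := fun k x => Even.neg_pow ⟨2 ^ k, by ring⟩ x
  obtain ⟨v, hv⟩ : ∃ v, v = a ^ 2 ^ (n + 1) := ⟨_, rfl⟩
  have v1 : v * v = -1 := by rw [hv, ← pow_add, ← two_mul, ← pow_succ', a1]
  have v2 : v * a = a * v := hv ▸ (Commute.self_pow a _).symm
  have v3 : v⁻¹ = -v := inv_eq_of_mul_eq_one_right (by rw [mul_neg, v1, neg_neg])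
  have a5 : jj * a * jj⁻¹ = -a⁻¹ := by rw [a2, neg_mul, mul_inv_cancel_right]
  have v4 : jj * v = -(v * jj) := by
    rw [← neg_mul, ← v3, ← mul_inv_eq_iff_eq_mul, hv, ← conj_pow, a5, n5, inv_pow]
  have v5 : v * a⁻¹ = a⁻¹ * v := (show Commute v a from v2).inv_right
  have a4 : jj * a⁻¹ = -(a * jj) := by rw [← neg_mul, ← mul_inv_eq_iff_eq_mul, ← conj_inv, a5, inv_neg, inv_inv]
  have l : ∀ {x y z : GL (Fin 2) F}, x * y = z → ∀ g, x * (y * g) = z * g := fun e g => by rw [← mul_assoc, e]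
  have d : 𝐝 v = 1 := by rw [hv, map_pow, a3, pow_succ', pow_mul]; simp
  have m1 : (-1 : GL (Fin 2) F) ≠ 1 := fun e => h2 (by have := (ent e).1; simp at this; linear_combination -this)
  refine ⟨M (-a) a, M (jj * a⁻¹) (jj * a⁻¹) * nu, M jj v, ?_, ?_, ?_, ?_, ?_, ?_, ?_, ?_, ?_,
    M_mem 1 (by rw [← neg_one_mul, ← ng_eq]; simp [a3]), mul_mem (M_mem 1 (by simp [a3])) nu_mem, M_mem 1 (by simp [d])⟩
  all_goals try rw [Commute, SemiconjBy]
  all_goals try rw [M_pow, n5]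
  all_goals simp only [← hv, a1, mul_assoc, M_mul, M_mul', nu_M, nu_M', nu_nu, nu_nu', M_inv, nu_inv, _root_.mul_inv_rev,
    inv_inv, jji, v3, a2, l a2, a4, l a4, v4, l v4, v2, l v2, v5, l v5, v1, l v1, jj2, l jj2, neg_mul, mul_neg, neg_neg, inv_neg,
    mul_one, one_mul, mul_inv_cancel, inv_mul_cancel, mul_inv_cancel_left, inv_mul_cancel_left, M_neg, M_one, Ne, M_ker]
  · rintro ⟨z, e, -⟩
    rw [e, sc_comm] at v4
    exact m1 (mul_right_cancel ((neg_one_mul _).trans v4.symm |>.trans (one_mul _).symm))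
  · rintro ⟨z, e, e'⟩
    exact m1 (e'.trans e.symm)

/-- generators and relations for `q ≡ 1 mod 4` -/
structure XR {G : Type*} [Group G] (n : ℕ) (T : ZMod (2 ^ (n + 2)) → ZMod (2 ^ (n + 2)) → ZMod (2 ^ (n + 2)) → G) (v w τ : G) :
    Prop where
  add : ∀ i j k a b c, T i j k * T a b c = T (i + a) (j + b) (k + c)
  ker : ∀ i j k, T i j k = 1 ↔ (i = 0 ∧ j = 0 ∧ k = 0) ∨ (i = 2 ^ (n + 1) ∧ j = 2 ^ (n + 1) ∧ k = 2 ^ (n + 1))
  vv : v * v = 1
  ww : w * w = 1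
  wv : w * v = v * w
  Tv : ∀ i j k, T i j k * v = v * T i (-j) (-k)
  Tw : ∀ i j k, T i j k * w = w * T (-i) (-j) k
  ττ : τ * τ = 1
  τT : ∀ i j k, τ * T i j k = T j i k * τ
  τw : τ * w = w * τ
  τv : τ * v = v * w * τ

theorem xd_data [Fintype F] {n u : ℕ} (hq : Fintype.card F = 2 ^ (n + 2) * u + 1) :
    ∃ T, ∃ v ∈ K F, ∃ w ∈ K F, ∃ τ ∈ K F, XR n T v w τ ∧ ∀ i j k l, i + j + k = l + l → T i j k ∈ K F := by
  have ho : Fintype.card F % 2 = 1 := by rw [pow_succ', mul_assoc] at hq; omega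
  have h2 := Grp.neg_one_ne_one_of_odd ho
  obtain ⟨ζ, hζ⟩ := Grp.exists_pow_eq_neg_one (F := F) (k := n + 1) ⟨u, by rw [Nat.card_eq_fintype_card, hq]; rfl⟩
  have z1 : ζ ^ 2 ^ (n + 2) = 1 := by rw [pow_succ, pow_mul, hζ]; simp
  obtain ⟨χ, c1, c2, c3⟩ : ∃ χ : ZMod (2 ^ (n + 2)) → Fˣ, (∀ i j, χ (i + j) = χ i * χ j) ∧ (∀ i, χ i = 1 ↔ i = 0) ∧
      χ (2 ^ (n + 1)) = -1 := ⟨fun i => ζ ^ (i.cast : ℤ), Inv.zpow_cast_add z1, fun i => by
    rw [← orderOf_dvd_iff_zpow_eq_one, orderOf_eq_prime_pow (hζ ▸ h2) z1, ← ZMod.intCast_zmod_eq_zero_iff_dvd,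
      ZMod.intCast_cast, ZMod.cast_id], by
    have := Inv.zpow_cast_intCast z1 (2 ^ (n + 1))
    rw [← hζ, ← zpow_natCast]
    simpa using this⟩
  have c4 : ∀ i, χ (-i) = (χ i)⁻¹ := fun i => eq_inv_of_mul_eq_one_left (by rw [← c1, neg_add_cancel, c2])
  have c5 : ∀ {i j}, χ i = χ j ↔ i = j := fun {i j} => by rw [← mul_inv_eq_one, ← c4, ← c1, c2, add_neg_eq_zero]
  refine ⟨fun i j k => M (dg (χ (i + j + k)) (χ k)) (dg (χ i) (χ j)), M dl dl * nu, mul_mem (M_mem 1 (by simp)) nu_mem,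
    M jj jj, M_mem 1 (by simp), M dl sw, M_mem 1 (by simp), ⟨fun i j k a b c => ?_, fun i j k => ?_, ?_, ?_, ?_, fun i j k => ?_,
    fun i j k => ?_, ?_, fun i j k => ?_, ?_, ?_⟩, fun i j k l e => M_mem (χ l) ?_⟩
  · simp only [M_mul, dg_mul, ← c1]; congr 3; ring
  · simp only [M_ker, dg_inj]
    refine ⟨fun ⟨z, ⟨a, b⟩, c, d⟩ => ?_, ?_⟩
    · obtain rfl := c5.1 (c.trans d.symm)
      obtain rfl := c5.1 (c.trans b.symm)
      rw [← b, c1, c1, mul_eq_right, Units.ext_iff, Units.val_mul, Units.val_one, mul_self_eq_one_iff] at a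
      exact a.imp (fun a => by simp [(c2 i).1 (Units.ext a)]) fun a => by simp [c5.1 ((Units.ext a).trans c3.symm)]
    · rintro (⟨rfl, rfl, rfl⟩ | ⟨rfl, rfl, rfl⟩)
      · exact ⟨_, ⟨by simp, rfl⟩, rfl, rfl⟩
      · exact ⟨_, ⟨by simp [c1, c3], rfl⟩, rfl, rfl⟩
  · simp only [mul_assoc, nu_M', M_mul', nu_nu, dl_dl, M_one, one_mul]
  · rw [M_mul, jj2, M_neg, neg_neg, M_one]
  · rw [mul_assoc, nu_M, ← mul_assoc, ← mul_assoc, M_mul, M_mul, show (jj : GL (Fin 2) F) * dl = -(dl * jj) by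
      apply gl_ext <;> simp, M_neg, neg_neg]
  · rw [mul_assoc, nu_M, ← mul_assoc, ← mul_assoc, M_mul, M_mul, ← M_sc (χ (j + k)) (A := dl * _)]
    simp only [dg_mul, c1, c4]
    congr 3 <;> simp [mul_comm, mul_left_comm, mul_assoc]
  · rw [M_mul, M_mul, ← M_sc (χ (i + j)) (A := jj * _), ← mul_inv_eq_iff_eq_mul.1 (jj_dg _ _), ← mul_inv_eq_iff_eq_mul.1 (jj_dg _ _),
      ← sc_lc, ← sc_lc]
    simp only [dg_mul, c1, c4]
    congr 3 <;> simp [mul_comm, mul_left_comm, mul_assoc]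
  · rw [M_mul, dl_dl, sw_sw, M_one]
  · rw [M_mul, M_mul, sw_dg', dg_comm, add_comm i]
  · rw [M_mul, M_mul, ← neg_neg (dl * jj), M_neg]
    congr 1 <;> apply gl_ext <;> simp
  · simp only [mul_assoc, nu_M, nu_M', M_mul', M_mul]
    congr 2 <;> apply gl_ext <;> simp
  · simp only [dt_dg, ← c1]
    rw [show i + j + k + k + (i + j) = l + l + l + l by linear_combination 2 * e, c1, c1, c1]
    simp [pow_succ]

theorem card_L4 [Fintype F] {r w : ℕ} (hq : Fintype.card F = r + 1) (hr : r = 2 * w) :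
    ∃ o, Odd o ∧ Nat.gcd 4 r * Nat.card PSL(4, F) = 2 * r ^ 3 * (r + 2) ^ 2 * o := by
  have h := Agent.S0243.result hq 4 (by decide)
  have p : 0 < r := by have := Fintype.one_lt_card (α := F); omega
  rw [Fin.prod_univ_four, Nat.add_sub_cancel, mul_left_comm] at h
  refine ⟨(r + 1) ^ 6 * (2 * w ^ 2 + 2 * w + 1) * (r * (r + 3) + 3), ?_, Nat.eq_of_mul_eq_mul_left p (h.trans ?_)⟩
  · subst hr
    exact ((Odd.pow ⟨w, rfl⟩).mul ⟨w ^ 2 + w, by ring⟩).mul ⟨w * (2 * w + 3) + 1, by ring⟩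
  · have k : ∀ i ≤ 4, (r + 1) ^ i ≤ (r + 1) ^ 4 := fun i a => Nat.pow_le_pow_right (by omega) a
    change ((r + 1) ^ 4 - (r + 1) ^ 0) * ((r + 1) ^ 4 - (r + 1) ^ 1) * ((r + 1) ^ 4 - (r + 1) ^ 2) * ((r + 1) ^ 4 - (r + 1) ^ 3) = _
    zify [k 0 (by decide), k 1 (by decide), k 2 (by decide), k 3 (by decide)]
    subst hr
    push_cast
    ring

end Cfsg.Lib.L4S.Mx
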